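import Groth.Agent.QC.Coherent
import Groth.Agent.QC.Closure
import Groth.Agent.QC.Basic
import Groth.Agent.QC.Localisation
import Groth.Agent.FlatModB.Basic
import Groth.Agent.NegFilt.Basic
import Groth.Agent.S2249
import Mathlib.RingTheory.Flat.TorsionFree

/-!
Extension of quotients of free modules from the generic fibre to a flat quotient
over a principal ideal domain (schematic closure of quotients).
-/

set_option autoImplicit false
set_option linter.style.haveILetI false
set_option backward.isDefEq.respectTransparency false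

universe u

open CategoryTheory CategoryTheory.Limits AlgebraicGeometry TopologicalSpace Opposite

noncomputable section

namespace Groth.Agent.FlatQuotExt

/-- restriction of a free module along an open immersion -/
def freeRestrictIso {U X : Scheme.{u}} (j : U ⟶ X) [IsOpenImmersion j] (N : ℕ) :
    (Scheme.Modules.restrictFunctor j).obj (FlatMod.freeMod X N) ≅ FlatMod.freeMod U N :=
  PreservesCoproduct.iso (Scheme.Modules.restrictFunctor j) _ ≪≫
    Sigma.mapIso fun _ => Scheme.Modules.restrictUnitIso j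

theorem app_injective_of_mono {X : Scheme.{u}} {M M' : X.Modules} (i : M ⟶ M') [Mono i] (V : X.Opens) :
    Function.Injective (i.app V) := by
  haveI : Mono ((Scheme.Modules.toPresheaf X).map i) := inferInstance
  haveI : Mono (i.app V) :=
    (NatTrans.mono_iff_mono_app ((Scheme.Modules.toPresheaf X).map i)).1 inferInstance (op V)
  exact (AddCommGrpCat.mono_iff_injective _).1 inferInstance

/-- submodules of pushforwards from an open on which the nonzero base functions are units
are flat over a principal ideal domain -/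
theorem isFlatOver_of_mono {X U : Scheme.{u}} {R : Type u} [CommRing R] [IsDomain R]
    [IsPrincipalIdealRing R] (f : X ⟶ Spec (CommRingCat.of R)) (j : U ⟶ X)
    (hunit : ∀ r : Γ(Spec (CommRingCat.of R), ⊤), r ≠ 0 → IsUnit ((j ≫ f).appTop r))
    (F : U.Modules) (F' : X.Modules) (hF' : Coh.IsQCoh F')
    (i : F' ⟶ (Scheme.Modules.pushforward j).obj F) [Mono i] :
    FlatMod.IsFlatOver f F' := by
  intro x
  obtain ⟨V, hV, hxV, -⟩ := exists_isAffineOpen_mem_and_subset (X := X) (x := x) (U := ⊤) trivial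
  have h : V ≤ f ⁻¹ᵁ (⊤ : (Spec (CommRingCat.of R)).Opens) := le_top
  refine (FlatModB.flat_sections_iff f F' hF' hV (isAffineOpen_top _) h).1 ?_ x hxV
  letI := FlatModB.secModule f F' V ⊤ h
  let e : Γ(Spec (CommRingCat.of R), ⊤) ≃+* R :=
    (Scheme.ΓSpecIso (CommRingCat.of R)).commRingCatIsoToRingEquiv
  haveI : IsDomain Γ(Spec (CommRingCat.of R), ⊤) := e.injective.isDomain e.toRingHom
  haveI : IsPrincipalIdealRing Γ(Spec (CommRingCat.of R), ⊤) :=
    IsPrincipalIdealRing.of_surjective e.symm.toRingHom e.symm.surjective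
  rw [Module.Flat.flat_iff_torsion_eq_bot_of_isBezout, eq_bot_iff]
  rintro s ⟨⟨r, hr⟩, hrs⟩
  have hr' : r ≠ 0 := nonZeroDivisors.ne_zero hr
  have hu : IsUnit (j.app V (f.appLE ⊤ V h r)) := by
    have h1 : (j ≫ f).appLE ⊤ (j ⁻¹ᵁ V) le_top = f.appLE ⊤ V h ≫ j.app V := by
      rw [Scheme.Hom.app_eq_appLE, Scheme.Hom.appLE_comp_appLE]
    have h2 : j.app V (f.appLE ⊤ V h r) = (j ≫ f).appLE ⊤ (j ⁻¹ᵁ V) le_top r :=
      (congrArg (fun φ => φ.hom r) h1).symm
    rw [h2]
    exact (hunit r hr').map (U.presheaf.map (homOfLE le_top).op).hom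
  have h3 : i.app V (f.appLE ⊤ V h r • s) = (j.app V (f.appLE ⊤ V h r)) • (show Γ(F, j ⁻¹ᵁ V) from i.app V s) :=
    Scheme.Modules.Hom.app_smul i _ _
  have h4 : f.appLE ⊤ V h r • s = 0 := hrs
  rw [h4, map_zero] at h3
  have h5 : (show Γ(F, j ⁻¹ᵁ V) from i.app V s) = 0 := hu.smul_eq_zero.1 h3.symm
  exact (Submodule.mem_bot _).2 (app_injective_of_mono i V (h5.trans (map_zero _).symm))

/-- quotients of free modules on an open over the generic point extend to flat quotients -/
theorem exists_flat_extension {X U : Scheme.{u}} [IsLocallyNoetherian X] {R : Type u} [CommRing R]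
    [IsDomain R] [IsPrincipalIdealRing R] (f : X ⟶ Spec (CommRingCat.of R)) (j : U ⟶ X)
    [IsOpenImmersion j] [QuasiCompact j] [QuasiSeparated j]
    (hunit : ∀ r : Γ(Spec (CommRingCat.of R), ⊤), r ≠ 0 → IsUnit ((j ≫ f).appTop r))
    (N : ℕ) (F : U.Modules) (hF : Coh.IsQCoh F) (q : FlatMod.freeMod U N ⟶ F) [Epi q] :
    ∃ (F' : X.Modules) (q' : FlatMod.freeMod X N ⟶ F'),
      Coh.IsCoh F' ∧ Epi q' ∧ FlatMod.IsFlatOver f F' ∧
        Nonempty ((Scheme.Modules.pullback j).obj F' ≅ F) := by
  have hP : Coh.IsQCoh ((Scheme.Modules.pushforward j).obj F) := by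
    haveI := hF
    exact S2249.result j F
  let adj := Scheme.Modules.restrictAdjunction j
  let q₀ : (Scheme.Modules.restrictFunctor j).obj (FlatMod.freeMod X N) ⟶ F :=
    (freeRestrictIso j N).hom ≫ q
  let ψ := adj.homEquiv _ _ q₀
  have hfree := NegFilt.isCoh_freeMod (X := X) N
  have hq : Coh.IsQCoh (Abelian.image ψ) := QC.isQCoh_image hfree.1 hP ψ
  refine ⟨Abelian.image ψ, Abelian.factorThruImage ψ, QC.isCoh_of_epi hfree hq (Abelian.factorThruImage ψ), inferInstance,
    isFlatOver_of_mono f j hunit F _ hq (Abelian.image.ι ψ), ⟨?_⟩⟩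
  let v : (Scheme.Modules.restrictFunctor j).obj (Abelian.image ψ) ⟶ F :=
    (Scheme.Modules.restrictFunctor j).map (Abelian.image.ι ψ) ≫ adj.counit.app F
  have hv : (Scheme.Modules.restrictFunctor j).map (Abelian.factorThruImage ψ) ≫ v = q₀ := by
    change _ ≫ _ ≫ _ = _
    rw [← Category.assoc, ← Functor.map_comp, Abelian.image.fac, ← Adjunction.homEquiv_counit,
      Equiv.symm_apply_apply]
  haveI : Epi q₀ := epi_comp _ _
  haveI : Epi v := epi_of_epi_fac hv
  haveI : Mono v := mono_comp _ _
  haveI : IsIso v := isIso_of_mono_of_epi v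
  exact ((Scheme.Modules.restrictFunctorIsoPullback j).app (Abelian.image ψ)).symm ≪≫ asIso v

theorem isOpenImmersion_generic (R : Type u) [CommRing R] [IsDomain R] [IsDiscreteValuationRing R] :
    IsOpenImmersion (Spec.map (CommRingCat.ofHom (algebraMap R (FractionRing R)))) := by
  obtain ⟨ϖ, hϖ⟩ := IsDiscreteValuationRing.exists_irreducible R
  have : IsLocalization.Away ϖ (FractionRing R) := by
    refine IsLocalization.Away.mk ϖ ?_ (fun z => ?_) fun a b hab => ?_
    · exact (map_ne_zero_iff _ (IsFractionRing.injective R _)).2 hϖ.ne_zero |>.isUnit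
    · obtain ⟨a, ⟨b, hb⟩, rfl⟩ := IsLocalization.exists_mk'_eq (nonZeroDivisors R) z
      obtain ⟨n, v, rfl⟩ :=
        IsDiscreteValuationRing.eq_unit_mul_pow_irreducible (nonZeroDivisors.ne_zero hb) hϖ
      refine ⟨n, a * (↑v⁻¹ : R), ?_⟩
      have e : algebraMap R (FractionRing R) ϖ ^ n =
          algebraMap R (FractionRing R) ((↑v * ϖ ^ n) * (↑v⁻¹ : R)) := by
        rw [← map_pow, mul_comm (↑v : R), mul_assoc, Units.mul_inv, mul_one]
      rw [e, map_mul _ _ (↑v⁻¹ : R), ← mul_assoc]
      have := IsLocalization.mk'_spec (FractionRing R) a ⟨↑v * ϖ ^ n, hb⟩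
      rw [map_mul _ a (↑v⁻¹ : R)]
      exact congrArg (· * algebraMap R (FractionRing R) (↑v⁻¹ : R)) this
    · exact ⟨0, by rw [IsFractionRing.injective R _ hab]⟩
  exact IsOpenImmersion.of_isLocalization ϖ

theorem isUnit_appTop_generic {R : Type u} [CommRing R] [IsDomain R] {U : Scheme.{u}}
    (a : U ⟶ Spec (CommRingCat.of (FractionRing R))) (r : Γ(Spec (CommRingCat.of R), ⊤)) (hr : r ≠ 0) :
    IsUnit ((a ≫ Spec.map (CommRingCat.ofHom (algebraMap R (FractionRing R)))).appTop r) := by
  rw [Scheme.Hom.comp_appTop, CommRingCat.comp_apply]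
  refine IsUnit.map a.appTop.hom ?_
  let e := (Scheme.ΓSpecIso (CommRingCat.of R)).commRingCatIsoToRingEquiv
  let e' := (Scheme.ΓSpecIso (CommRingCat.of (FractionRing R))).commRingCatIsoToRingEquiv
  have h : e' ((Spec.map (CommRingCat.ofHom (algebraMap R (FractionRing R)))).appTop r) =
      algebraMap R (FractionRing R) (e r) :=
    congrArg (fun φ => φ.hom r) (Scheme.ΓSpecIso_naturality (CommRingCat.ofHom (algebraMap R (FractionRing R))))
  have hu : IsUnit (algebraMap R (FractionRing R) (e r)) :=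
    ((map_ne_zero_iff _ (IsFractionRing.injective R _)).2 fun h0 => hr (e.injective (h0.trans (map_zero e).symm))).isUnit
  rw [← h] at hu
  simpa using hu.map e'.symm

end Groth.Agent.FlatQuotExt
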